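import Cfsg.Agent.H256.TD.Three
import Cfsg.Agent.H566.TD.Phi
import Cfsg.Agent.H798.RG.LongRoot
import Cfsg.Agent.H605.MX.ConjTop

/-!
# S3509, row `³D₄(q)`, box T4 (helper256, helper39)

`ncl_D4` : the normal closure of an element `u` of order `r` in `C(s)` contains a long root element or an element of a
new prime order.
-/

set_option autoImplicit false
set_option linter.unusedSectionVars false

namespace Cfsg.Agent.H256.TD

open CoxeterSystem Cfsg Cfsg.Lie Cfsg.Lie.ChevalleyDatum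
open Cfsg.Agent.ChevalleyStructure Cfsg.Agent.ChevalleyStructure.CoxeterGeom
  Cfsg.Agent.ChevalleyStructure.CoxeterGeomTypes Cfsg.Agent.Nodes Cfsg.Agent.Nodes.RGDChev
  Cfsg.Agent.KFacts.RgdField Cfsg.Agent.KFacts.RgdChevCoord
open Cfsg.Agent.Tits.Roots
open Cfsg.Agent.BpExc Cfsg.Agent.BpExc.TorCent Cfsg.Agent.BpExc.Pair Cfsg.Agent.BpExc.LangFr Cfsg.Agent.H469.Exc
open Cfsg.Agent.H316.U6 Cfsg.Agent.H169.RG Cfsg.Agent.H864.TD
open Cfsg.Agent.H720.TwFr (permE rho4)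

variable {r q : ℕ} [hr : Fact r.Prime] {K₀ : Type} [Group K₀] [Finite K₀] (m : MData RGDTwD4.hp r q K₀)

theorem m4 : ∀ i j, coxeterD4 i j ≠ 4 := by
  intro i j
  fin_cases i <;> fin_cases j <;> decide

theorem m6 : ∀ i j, coxeterD4 i j ≠ 6 := by
  intro i j
  fin_cases i <;> fin_cases j <;> decide

/-- the root groups of `θ`-fixed roots consist of long root elements -/
theorem lrg4 : H39.TD.Lrg m := by
  intro s f b hb hθ x hx hα hx1
  obtain ⟨w, hw⟩ := H605.MX.exists_rep_top RGDTwD4.hp coxeterD4.toCoxeterSystem m4 m6 hb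
  exact H798.RG.lr_of_mem f hw hθ hx hα hx1

variable (hg : m.g = permE rho4) (hdd : m.dd = 1)

include hg hdd

theorem t4a : H39.TD.T4a m := by
  intro s hs1 f Φ hΦ
  exact H566.TD.phi_cases m hg hdd hs1 f hΦ

/-- **BOX T4**: the normal closure of an element `u` of order `r` in `C(s)` contains a long root element or an element of
a new prime order -/
theorem ncl_D4 {s u : Y4 r} (hs : m.σ s = s) (hs1 : s ≠ 1) {d : ℕ} (hd : d.Coprime r) (hsd : s ^ d = 1)
    (hu : m.σ u = u) (hus : u * s = s * u) (hu1 : u ≠ 1) (hur : u ^ r = 1) :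
    (∃ v ∈ ncl m s u, LR m v) ∨ ∃ y ∈ ncl m s u, y ≠ 1 ∧ ∃ t : ℕ, t.Prime ∧ t ≠ r ∧ y ^ t = 1 ∧ ¬ t ∣ orderOf s :=
  H39.TD.ncl_of m (t4a m hg hdd) (lrg4 m) (three hg hdd) hs hs1 hd hsd hu hus hu1 hur

end Cfsg.Agent.H256.TD
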